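import Mathlib.RingTheory.HopfAlgebra.Quotient
import Mathlib.RingTheory.Artinian.Module
import Mathlib.RingTheory.Artinian.Ring
import Mathlib.RingTheory.TensorProduct.Free
import Mathlib.LinearAlgebra.Determinant
import Mathlib.FieldTheory.IsAlgClosed.Basic
import Mathlib.Algebra.MvPolynomial.Funext
import Mathlib.LinearAlgebra.FreeModule.Finite.Basic

/-!
# A finite group scheme is free over the quotient by a subgroup scheme
-/

set_option autoImplicit false
universe u v

noncomputable section

open TensorProduct

namespace Groth.Agent.FinInv23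

variable {k : Type u} [Field k] {A : Type v} [CommRing A] [HopfAlgebra k A] (I : Ideal A)
  [I.IsHopfIdeal k]

/-- Right translation coaction by the subgroup. -/
def rho : A →ₐ[k] A ⊗[k] (A ⧸ I) :=
  (Algebra.TensorProduct.map (AlgHom.id k A) (Ideal.Quotient.mkₐ k I)).comp (Bialgebra.comulAlgHom k A)

/-- The coassociativity map. -/
def phiMap : A ⊗[k] (A ⧸ I) →ₐ[k] (A ⊗[k] (A ⧸ I)) ⊗[k] (A ⧸ I) :=
  (Algebra.TensorProduct.assoc k k k A (A ⧸ I) (A ⧸ I)).symm.toAlgHom.comp
    (Algebra.TensorProduct.map (AlgHom.id k A) (Bialgebra.comulAlgHom k (A ⧸ I)))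

theorem phiMap_tmul_one (a : A) : phiMap (k := k) I (a ⊗ₜ 1) = (a ⊗ₜ 1) ⊗ₜ 1 := by
  simp [phiMap, Algebra.TensorProduct.one_def]

theorem rho_coassoc (a : A) :
    Algebra.TensorProduct.map (rho (k := k) I) (AlgHom.id k (A ⧸ I)) (rho (k := k) I a) =
      phiMap (k := k) I (rho (k := k) I a) := by
  let π := Ideal.Quotient.mkₐ k I
  let P : (A ⊗[k] A) ⊗[k] A →ₐ[k] (A ⊗[k] (A ⧸ I)) ⊗[k] (A ⧸ I) :=
    Algebra.TensorProduct.map (Algebra.TensorProduct.map (AlgHom.id k A) π) π
  have h1 : ∀ t : A ⊗[k] A, phiMap (k := k) I (Algebra.TensorProduct.map (AlgHom.id k A) π t) =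
      P ((TensorProduct.assoc k A A A).symm ((Coalgebra.comul (R := k) (A := A)).lTensor A t)) := by
    intro t
    induction t using TensorProduct.induction_on with
    | zero => simp
    | add s s' hs hs' => simp only [map_add, hs, hs']
    | tmul x y =>
      rw [LinearMap.lTensor_tmul, Algebra.TensorProduct.map_tmul]
      show (Algebra.TensorProduct.assoc k k k A (A ⧸ I) (A ⧸ I)).symm
        (x ⊗ₜ[k] Coalgebra.comul (R := k) (Ideal.Quotient.mk I y)) = _
      rw [Bialgebra.Quotient.comul_mk]
      induction Coalgebra.comul (R := k) y using TensorProduct.induction_on with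
      | zero => simp
      | add s s' hs hs' => simp only [map_add, tmul_add, hs, hs']
      | tmul p q => rfl
  have h2 : ∀ t : A ⊗[k] A, Algebra.TensorProduct.map (rho (k := k) I) (AlgHom.id k (A ⧸ I))
      (Algebra.TensorProduct.map (AlgHom.id k A) π t) =
      P ((Coalgebra.comul (R := k) (A := A)).rTensor A t) := by
    intro t
    induction t using TensorProduct.induction_on with
    | zero => simp
    | add s s' hs hs' => simp only [map_add, hs, hs']
    | tmul x y => simp [rho, P, π]
  show Algebra.TensorProduct.map (rho (k := k) I) (AlgHom.id k (A ⧸ I))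
      (Algebra.TensorProduct.map (AlgHom.id k A) π (Coalgebra.comul (R := k) a)) =
    phiMap (k := k) I (Algebra.TensorProduct.map (AlgHom.id k A) π (Coalgebra.comul (R := k) a))
  rw [h1, h2, Coalgebra.coassoc_symm_apply]

theorem span_range_rho :
    Submodule.span A (Set.range (rho (k := k) I)) = (⊤ : Submodule A (A ⊗[k] (A ⧸ I))) := by
  rw [eq_top_iff]
  intro t ht
  clear ht
  induction t using TensorProduct.induction_on with
  | zero => exact zero_mem _
  | add x y hx hy => exact add_mem hx hy
  | tmul u c =>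
    obtain ⟨c, rfl⟩ := Ideal.Quotient.mk_surjective c
    let π := Ideal.Quotient.mkₐ k I
    let W := Submodule.span A (Set.range (rho (k := k) I))
    let T : A ⊗[k] (A ⊗[k] A) →ₗ[k] A ⊗[k] A :=
      (LinearMap.mul' k A ∘ₗ (HopfAlgebra.antipode k (A := A)).rTensor A).rTensor A ∘ₗ
        (TensorProduct.assoc k A A A).symm.toLinearMap
    have hT : ∀ x y, Algebra.TensorProduct.map (AlgHom.id k A) π (T (x ⊗ₜ Coalgebra.comul (R := k) y)) =
        HopfAlgebra.antipode k x • rho (k := k) I y := by
      intro x y
      show _ = _ • Algebra.TensorProduct.map (AlgHom.id k A) π (Coalgebra.comul (R := k) y)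
      induction Coalgebra.comul (R := k) y using TensorProduct.induction_on with
      | zero => simp
      | add s s' hs hs' => simp only [map_add, tmul_add, smul_add, hs, hs']
      | tmul p q => simp [T, π, TensorProduct.smul_tmul']
    have hW : ∀ s : A ⊗[k] A, Algebra.TensorProduct.map (AlgHom.id k A) π
        (T ((Coalgebra.comul (R := k) (A := A)).lTensor A s)) ∈ W := by
      intro s
      induction s using TensorProduct.induction_on with
      | zero => simp
      | add s s' hs hs' => simp only [map_add]; exact add_mem hs hs'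
      | tmul x y =>
        rw [LinearMap.lTensor_tmul, hT]
        exact W.smul_mem _ (Submodule.subset_span ⟨y, rfl⟩)
    have hone : T ((Coalgebra.comul (R := k) (A := A)).lTensor A (Coalgebra.comul c)) = 1 ⊗ₜ c := by
      show (LinearMap.mul' k A ∘ₗ (HopfAlgebra.antipode k (A := A)).rTensor A).rTensor A
        ((TensorProduct.assoc k A A A).symm _) = _
      rw [Coalgebra.coassoc_symm_apply, ← LinearMap.rTensor_comp_apply, LinearMap.comp_assoc,
        HopfAlgebra.mul_antipode_rTensor_comul, LinearMap.rTensor_comp_apply,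
        Coalgebra.rTensor_counit_comul, LinearMap.rTensor_tmul, Algebra.linearMap_apply, map_one]
    have h := hW (Coalgebra.comul c)
    rw [hone] at h
    have := W.smul_mem u h
    rwa [Algebra.TensorProduct.map_tmul, map_one, TensorProduct.smul_tmul', smul_eq_mul, mul_one] at this

variable [Module.Finite k A] [IsAlgClosed k]

theorem exists_basis_rho :
    ∃ x : Fin (Module.finrank k (A ⧸ I)) → A,
      IsUnit ((Algebra.TensorProduct.basis A (Module.finBasis k (A ⧸ I))).toMatrix
        (fun i => rho (k := k) I (x i))).det := by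
  classical
  set d := Module.finrank k (A ⧸ I)
  let β := Algebra.TensorProduct.basis A (Module.finBasis k (A ⧸ I))
  let a := Module.finBasis k A
  have hspan : Submodule.span A (Set.range fun l => rho (k := k) I (a l)) = ⊤ := by
    rw [eq_top_iff, ← span_range_rho I, Submodule.span_le]
    rintro _ ⟨y, rfl⟩
    rw [← a.sum_repr y, map_sum]
    refine Submodule.sum_mem _ fun l _ => ?_
    rw [map_smul, ← algebraMap_smul A (a.repr y l)]
    exact Submodule.smul_mem _ _ (Submodule.subset_span ⟨l, rfl⟩)
  choose C hC using fun j => (Submodule.mem_span_range_iff_exists_fun A).mp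
    (hspan.symm ▸ (Submodule.mem_top : β j ∈ (⊤ : Submodule A _)))
  let N : Matrix (Fin (Module.finrank k A)) (Fin d) A := fun l j => β.repr (rho (k := k) I (a l)) j
  have hCN : (Matrix.of C : Matrix (Fin d) _ A) * N = 1 := by
    ext i j
    have h := congrArg (fun t => β.repr t j) (hC i)
    simp only [map_sum, map_smul, Finsupp.finsetSum_apply, Finsupp.smul_apply, smul_eq_mul,
      Module.Basis.repr_self] at h
    rw [Matrix.mul_apply, Matrix.one_apply]
    refine h.trans ?_
    rw [Finsupp.single_apply]
  haveI : IsArtinianRing A := IsArtinianRing.of_finite k A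
  haveI := Fintype.ofFinite (MaximalSpectrum A)
  have hchi : ∀ m : MaximalSpectrum A, ∃ χ : A →ₐ[k] k, ∀ y ∈ m.asIdeal, χ y = 0 := by
    intro m
    haveI := m.isMaximal
    letI := Ideal.Quotient.field m.asIdeal
    have hb : Function.Bijective (Algebra.ofId k (A ⧸ m.asIdeal)) :=
      IsAlgClosed.algebraMap_bijective_of_isIntegral
    refine ⟨(AlgEquiv.ofBijective _ hb).symm.toAlgHom.comp (Ideal.Quotient.mkₐ k m.asIdeal), fun y hy => ?_⟩
    rw [AlgHom.comp_apply, Ideal.Quotient.mkₐ_eq_mk, Ideal.Quotient.eq_zero_iff_mem.mpr hy, map_zero]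
  choose χ hχ using hchi
  -- generic combinations
  let Z : Matrix (Fin d) (Fin (Module.finrank k A)) (MvPolynomial (Fin d × Fin (Module.finrank k A)) k) :=
    fun i l => MvPolynomial.X (i, l)
  let P : MaximalSpectrum A → MvPolynomial (Fin d × Fin (Module.finrank k A)) k :=
    fun m => (Z * N.map (fun y => MvPolynomial.C (χ m y))).det
  have hP : ∀ (m : MaximalSpectrum A) (z : Matrix (Fin d) (Fin (Module.finrank k A)) k),
      MvPolynomial.eval (fun il => z il.1 il.2) (P m) = (z * N.map (χ m)).det := by
    intro m z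
    rw [RingHom.map_det]
    congr 1
    ext i j
    simp [Z, Matrix.mul_apply]
  have hP0 : ∀ m, P m ≠ 0 := by
    intro m h
    have h' := hP m ((Matrix.of C : Matrix (Fin d) _ A).map (χ m))
    rw [h, map_zero, ← Matrix.map_mul, hCN, Matrix.map_one _ (map_zero _) (map_one _), Matrix.det_one] at h'
    exact zero_ne_one h'
  haveI : Infinite k := inferInstance
  obtain ⟨z, hz⟩ : ∃ z, MvPolynomial.eval z (∏ m, P m) ≠ 0 := by
    by_contra h
    push Not at h
    exact Finset.prod_ne_zero_iff.mpr (fun m _ => hP0 m) (MvPolynomial.funext fun z => by rw [h z, map_zero])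
  refine ⟨fun i => ∑ l, z (i, l) • a l, ?_⟩
  set M := β.toMatrix (fun i => rho (k := k) I (∑ l, z (i, l) • a l))
  by_contra hM
  obtain ⟨m, hm, hdm⟩ := exists_max_ideal_of_mem_nonunits hM
  have h0 := hχ ⟨m, hm⟩ _ hdm
  rw [map_prod, Finset.prod_ne_zero_iff] at hz
  refine hz ⟨m, hm⟩ (Finset.mem_univ _) ?_
  rw [show z = (fun il => (Matrix.of fun i l => z (i, l)) il.1 il.2) from rfl, hP]
  rw [← h0, AlgHom.map_det, ← Matrix.det_transpose]
  congr 1
  ext j i
  simp [M, N, Matrix.mul_apply, Module.Basis.toMatrix_apply, map_sum, Finsupp.finsetSum_apply]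
  refine Finset.sum_congr rfl fun l _ => ?_
  rw [← algebraMap_smul A (z (i, l)), map_smul, Finsupp.smul_apply, smul_eq_mul, map_mul,
    AlgHom.commutes, Algebra.algebraMap_self, RingHom.id_apply]

/-- The functions invariant under right translation. -/
abbrev rightInv : Subalgebra k A :=
  AlgHom.equalizer
    ((Algebra.TensorProduct.map (AlgHom.id k A) (Ideal.Quotient.mkₐ k I)).comp (Bialgebra.comulAlgHom k A))
    (Algebra.TensorProduct.includeLeft : A →ₐ[k] A ⊗[k] (A ⧸ I))

theorem exists_basis_rightInv :
    Nonempty (Module.Basis (Fin (Module.finrank k (A ⧸ I))) (rightInv (k := k) I) A) := by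
  classical
  letI iB : CommRing (A ⊗[k] (A ⧸ I)) := inferInstance
  letI iC : CommRing ((A ⊗[k] (A ⧸ I)) ⊗[k] (A ⧸ I)) := inferInstance
  obtain ⟨x, hx⟩ := exists_basis_rho (k := k) I
  set h := Module.finBasis k (A ⧸ I)
  set β := Algebra.TensorProduct.basis A h
  obtain ⟨hli, hsp⟩ := (β.is_basis_iff_det).mpr (by rwa [Module.Basis.det_apply])
  let Ψ := Algebra.TensorProduct.map (rho (k := k) I) (AlgHom.id k (A ⧸ I))
  let β' := Algebra.TensorProduct.basis (A ⊗[k] (A ⧸ I)) h
  have hΨs : ∀ (l : A) (t : A ⊗[k] (A ⧸ I)), Ψ (l • t) = rho (k := k) I l • Ψ t := by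
    intro l t
    have e : l • t = (l ⊗ₜ[k] (1 : A ⧸ I)) * t := by
      induction t using TensorProduct.induction_on with
      | zero => simp
      | add s s' hs hs' => rw [smul_add, mul_add, hs, hs']
      | tmul p q => simp [TensorProduct.smul_tmul', Algebra.TensorProduct.tmul_mul_tmul]
    rw [e, map_mul]
    show (rho (k := k) I l ⊗ₜ[k] (1 : A ⧸ I)) * _ = _
    induction Ψ t using TensorProduct.induction_on with
    | zero => simp
    | add s s' hs hs' => rw [mul_add, smul_add, hs, hs']
    | tmul p q => simp [TensorProduct.smul_tmul', Algebra.TensorProduct.tmul_mul_tmul]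
  have hΨβ : ∀ (t : A ⊗[k] (A ⧸ I)) j, β'.repr (Ψ t) j = rho (k := k) I (β.repr t j) := by
    intro t j
    conv_lhs => rw [← β.sum_repr t]
    simp only [map_sum, hΨs, map_smul, Finsupp.finsetSum_apply, Finsupp.smul_apply]
    rw [Finset.sum_eq_single j]
    · have : Ψ (β j) = β' j := by simp [Ψ, β, β', Algebra.TensorProduct.basis_apply]
      rw [this, Module.Basis.repr_self, Finsupp.single_eq_same, smul_eq_mul, mul_one]
    · intro i _ hij
      have : Ψ (β i) = β' i := by simp [Ψ, β, β', Algebra.TensorProduct.basis_apply]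
      rw [this, Module.Basis.repr_self, Finsupp.single_eq_of_ne (Ne.symm hij), smul_zero]
    · exact fun h => absurd (Finset.mem_univ j) h
  have hli' : LinearIndependent (A ⊗[k] (A ⧸ I)) fun i => Ψ (rho (k := k) I (x i)) := by
    refine ((β'.is_basis_iff_det).mpr ?_).1
    rw [Module.Basis.det_apply]
    have e : β'.toMatrix (fun i => Ψ (rho (k := k) I (x i))) =
        (β.toMatrix fun i => rho (k := k) I (x i)).map (rho (k := k) I) := by
      ext j i
      exact hΨβ _ _
    rw [e, ← AlgHom.mapMatrix_apply, ← AlgHom.map_det]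
    exact hx.map _
  have hmem : ∀ y : A, y ∈ rightInv (k := k) I ↔ rho (k := k) I y = y ⊗ₜ 1 := fun y => Iff.rfl
  let E : A ⊗[k] (A ⧸ I) →ₐ[k] A := Algebra.TensorProduct.lift (AlgHom.id k A)
    ((Algebra.ofId k A).comp (Bialgebra.counitAlgHom k (A ⧸ I))) fun _ _ => Commute.all _ _
  have hEρ : ∀ y, E (rho (k := k) I y) = y := by
    intro y
    have h1 : ∀ t : A ⊗[k] A, E (Algebra.TensorProduct.map (AlgHom.id k A) (Ideal.Quotient.mkₐ k I) t) =
        TensorProduct.rid k A ((Coalgebra.counit (R := k)).lTensor A t) := by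
      intro t
      induction t using TensorProduct.induction_on with
      | zero => simp
      | add s s' hs hs' => simp only [map_add, hs, hs']
      | tmul p q => simp [E, Algebra.smul_def, mul_comm]
    show E (Algebra.TensorProduct.map _ _ (Coalgebra.comul (R := k) y)) = y
    rw [h1, Coalgebra.lTensor_counit_comul, TensorProduct.rid_tmul, one_smul]
  have hEs : ∀ (l : A) (t : A ⊗[k] (A ⧸ I)), E (l • t) = l * E t := by
    intro l t
    induction t using TensorProduct.induction_on with
    | zero => simp
    | add s s' hs hs' => rw [smul_add, map_add, map_add, mul_add, hs, hs']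
    | tmul p q => simp [E, TensorProduct.smul_tmul', mul_assoc]
  refine ⟨Module.Basis.mk (v := x) ?_ ?_⟩
  · rw [Fintype.linearIndependent_iff]
    intro g hg i
    have h0 : ∑ j, (g j : A) • rho (k := k) I (x j) = 0 := by
      have := congrArg (rho (k := k) I) hg
      rw [map_sum, map_zero] at this
      refine Eq.trans (Finset.sum_congr rfl fun j _ => ?_) this
      rw [Subalgebra.smul_def, smul_eq_mul, map_mul, (hmem _).mp (g j).2]
      induction rho (k := k) I (x j) using TensorProduct.induction_on with
      | zero => simp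
      | add s s' hs hs' => rw [mul_add, smul_add, hs, hs']
      | tmul p q => simp [TensorProduct.smul_tmul', Algebra.TensorProduct.tmul_mul_tmul]
    exact Subtype.ext (Fintype.linearIndependent_iff.mp hli (fun j => (g j : A)) h0 i)
  · intro y _
    obtain ⟨l, hl⟩ := (Submodule.mem_span_range_iff_exists_fun A).mp
      (hsp.symm ▸ (Submodule.mem_top : rho (k := k) I y ∈ (⊤ : Submodule A _)))
    have h1 := congrArg Ψ hl
    have h2 := congrArg (phiMap (k := k) I) hl
    rw [← rho_coassoc I y] at h2
    simp only [map_sum, hΨs] at h1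
    have hlinv : ∀ i, rho (k := k) I (l i) = l i ⊗ₜ 1 := by
      intro i
      have h3 : ∑ i, (rho (k := k) I (l i) - l i ⊗ₜ[k] 1) • Ψ (rho (k := k) I (x i)) = 0 := by
        simp only [sub_smul, Finset.sum_sub_distrib]
        rw [h1, sub_eq_zero]
        refine h2.symm.trans ?_
        rw [map_sum]
        refine Finset.sum_congr rfl fun j _ => ?_
        have e : l j • rho (k := k) I (x j) = (l j ⊗ₜ[k] (1 : A ⧸ I)) * rho (k := k) I (x j) := by
          induction rho (k := k) I (x j) using TensorProduct.induction_on with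
          | zero => simp
          | add s s' hs hs' => rw [mul_add, smul_add, hs, hs']
          | tmul p q => simp [TensorProduct.smul_tmul', Algebra.TensorProduct.tmul_mul_tmul]
        rw [e, map_mul, phiMap_tmul_one, ← rho_coassoc I (x j)]
        induction Ψ (rho (k := k) I (x j)) using TensorProduct.induction_on with
        | zero => simp
        | add s s' hs hs' => rw [mul_add, smul_add, hs, hs']
        | tmul p q => simp [TensorProduct.smul_tmul', Algebra.TensorProduct.tmul_mul_tmul]
      exact sub_eq_zero.mp (Fintype.linearIndependent_iff.mp hli' _ h3 i)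
    rw [Submodule.mem_span_range_iff_exists_fun]
    refine ⟨fun i => ⟨l i, (hmem _).mpr (hlinv i)⟩, ?_⟩
    conv_rhs => rw [← hEρ y, ← hl, map_sum]
    exact Finset.sum_congr rfl fun i _ => by rw [hEs, hEρ]; rfl

end Groth.Agent.FinInv23
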