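import Groth.Prelude.Def_GLin
import Mathlib.LinearAlgebra.Charpoly.ToMatrix
import Mathlib.LinearAlgebra.Matrix.Charpoly.Coeff
import Mathlib.RingTheory.Adjoin.Tower
import Mathlib.RingTheory.FiniteType
import Mathlib.RingTheory.TensorProduct.Free
import Mathlib.RingTheory.IntegralClosure.IsIntegralClosure.Basic
import Mathlib.Algebra.Polynomial.Lifts
import Mathlib.RingTheory.OrzechProperty

/-!
# Invariants of a finite group scheme: norms, integrality and finiteness
-/

set_option autoImplicit false
universe u v w w'

noncomputable section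

open TensorProduct

namespace Groth.Agent.FinInv23

section Charpoly

variable {k : Type u} [Field k] {A : Type v} [CommRing A] [Algebra k A] [Module.Finite k A]
  {S : Type w} [CommRing S] [Algebra k S] {S' : Type w'} [CommRing S'] [Algebra k S']

/-- The characteristic polynomial of multiplication on a base change of a finite algebra. -/
def mulCharpoly (t : S ⊗[k] A) : Polynomial S := (Algebra.lmul S (S ⊗[k] A) t).charpoly

theorem mulCharpoly_map (g : S →ₐ[k] S') (t : S ⊗[k] A) :
    mulCharpoly (Algebra.TensorProduct.map g (AlgHom.id k A) t) =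
      (mulCharpoly t).map (g : S →+* S') := by
  classical
  let h := Module.finBasis k A
  let b := Algebra.TensorProduct.basis S h
  let b' := Algebra.TensorProduct.basis S' h
  have hrepr : ∀ (u : S ⊗[k] A) i,
      b'.repr (Algebra.TensorProduct.map g (AlgHom.id k A) u) i = g (b.repr u i) := by
    intro u i
    induction u using TensorProduct.induction_on with
    | zero => simp
    | add x y hx hy => simp only [map_add, Finsupp.add_apply, hx, hy]
    | tmul r a =>
      rw [Algebra.TensorProduct.map_tmul, AlgHom.id_apply, Algebra.TensorProduct.basis_repr_tmul,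
        Algebra.TensorProduct.basis_repr_tmul]
      simp [Finsupp.mapRange_apply]
  unfold mulCharpoly
  rw [← LinearMap.charpoly_toMatrix _ b', ← LinearMap.charpoly_toMatrix _ b, ← Matrix.charpoly_map]
  congr 1
  ext i j
  simp only [LinearMap.toMatrix_apply, Matrix.map_apply, Algebra.coe_lmul_eq_mul, LinearMap.mul_apply']
  have hb : b' j = Algebra.TensorProduct.map g (AlgHom.id k A) (b j) := by
    simp [b, b', Algebra.TensorProduct.basis_apply]
  rw [hb, ← map_mul]
  exact hrepr _ i

theorem mulCharpoly_algEquiv (e : (S ⊗[k] A) ≃ₐ[S] (S ⊗[k] A)) (t : S ⊗[k] A) :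
    mulCharpoly (e t) = mulCharpoly t := by
  unfold mulCharpoly
  rw [← LinearEquiv.charpoly_conj e.toLinearEquiv (Algebra.lmul S (S ⊗[k] A) t)]
  congr 1
  refine LinearMap.ext fun x => ?_
  simp [LinearEquiv.conj_apply]

theorem aeval_mulCharpoly (t : S ⊗[k] A) : Polynomial.aeval t (mulCharpoly t) = 0 := by
  have h := LinearMap.aeval_self_charpoly (Algebra.lmul S (S ⊗[k] A) t)
  rw [Polynomial.aeval_algHom_apply] at h
  have h1 := LinearMap.congr_fun h 1
  simpa [mulCharpoly] using h1

end Charpoly

section Shear

variable {k : Type u} [Field k] {A : Type v} [CommRing A] [HopfAlgebra k A] [Module.Finite k A]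
  {S : Type w} [CommRing S] [Algebra k S]

/-- The shear map `s ⊗ b ↦ Σ s ι(b₁) ⊗ b₂`. -/
def shear (ι : A →ₐ[k] S) : S ⊗[k] A →ₐ[S] S ⊗[k] A :=
  Algebra.TensorProduct.lift (Algebra.ofId S (S ⊗[k] A))
    ((Algebra.TensorProduct.map ι (AlgHom.id k A)).comp (Bialgebra.comulAlgHom k A))
    fun _ _ => Commute.all _ _

theorem shear_tmul (ι : A →ₐ[k] S) (s : S) (b : A) :
    shear ι (s ⊗ₜ b) =
      (s ⊗ₜ[k] (1 : A)) * Algebra.TensorProduct.map ι (AlgHom.id k A) (Coalgebra.comul (R := k) b) := by
  simp [shear, Algebra.ofId_apply]

theorem shear_surjective (ι : A →ₐ[k] S) : Function.Surjective (shear ι) := by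
  intro t
  show t ∈ (shear ι).range
  induction t using TensorProduct.induction_on with
  | zero => exact zero_mem _
  | add x y hx hy => exact add_mem hx hy
  | tmul s c =>
    let T : A ⊗[k] (A ⊗[k] A) →ₗ[k] A ⊗[k] A :=
      (LinearMap.mul' k A ∘ₗ (HopfAlgebra.antipode k (A := A)).rTensor A).rTensor A ∘ₗ
        (TensorProduct.assoc k A A A).symm.toLinearMap
    have hT : ∀ x y, Algebra.TensorProduct.map ι (AlgHom.id k A) (T (x ⊗ₜ Coalgebra.comul (R := k) y)) =
        shear ι (ι (HopfAlgebra.antipode k x) ⊗ₜ y) := by
      intro x y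
      rw [shear_tmul]
      induction Coalgebra.comul (R := k) y using TensorProduct.induction_on with
      | zero => simp
      | add p q hp hq => simp only [map_add, tmul_add, mul_add, hp, hq]
      | tmul p q => simp [T]
    have hW : ∀ z : A ⊗[k] A, Algebra.TensorProduct.map ι (AlgHom.id k A)
        (T ((Coalgebra.comul (R := k) (A := A)).lTensor A z)) ∈ (shear ι).range := by
      intro z
      induction z using TensorProduct.induction_on with
      | zero => simp [zero_mem]
      | add p q hp hq => simp only [map_add]; exact add_mem hp hq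
      | tmul x y =>
        rw [LinearMap.lTensor_tmul, hT]
        exact ⟨_, rfl⟩
    have hone : T ((Coalgebra.comul (R := k) (A := A)).lTensor A (Coalgebra.comul c)) = 1 ⊗ₜ c := by
      show (LinearMap.mul' k A ∘ₗ (HopfAlgebra.antipode k (A := A)).rTensor A).rTensor A
        ((TensorProduct.assoc k A A A).symm _) = _
      rw [Coalgebra.coassoc_symm_apply, ← LinearMap.rTensor_comp_apply, LinearMap.comp_assoc,
        HopfAlgebra.mul_antipode_rTensor_comul, LinearMap.rTensor_comp_apply,
        Coalgebra.rTensor_counit_comul, LinearMap.rTensor_tmul, Algebra.linearMap_apply, map_one]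
    have h := hW (Coalgebra.comul c)
    rw [hone, Algebra.TensorProduct.map_tmul, map_one, AlgHom.id_apply] at h
    have h' := (shear ι).range.smul_mem h s
    rwa [TensorProduct.smul_tmul', smul_eq_mul, mul_one] at h'

theorem shear_bijective (ι : A →ₐ[k] S) : Function.Bijective (shear ι) :=
  OrzechProperty.bijective_of_surjective_endomorphism (shear ι).toLinearMap (shear_surjective ι)

end Shear

section Invariants

variable (k : Type u) [Field k] (A : Type v) [CommRing A] [HopfAlgebra k A] [Module.Finite k A]
  (R : Type w) [CommRing R] [Algebra k R] [HopfRep.Comod k A R] [GLin.IsCoactAlg k A R]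

theorem mulCharpoly_coact_map (f : R) :
    (mulCharpoly (GLin.coactAlgHom k A R f)).map (GLin.coactAlgHom k A R : R →+* R ⊗[k] A) =
      (mulCharpoly (GLin.coactAlgHom k A R f)).map
        ((Algebra.TensorProduct.includeLeft : R →ₐ[k] R ⊗[k] A) : R →+* R ⊗[k] A) := by
  let ι : A →ₐ[k] R ⊗[k] A := Algebra.TensorProduct.includeRight
  let e := AlgEquiv.ofBijective (shear ι) (shear_bijective ι)
  rw [← mulCharpoly_map, ← mulCharpoly_map, ← mulCharpoly_algEquiv e
    (Algebra.TensorProduct.map Algebra.TensorProduct.includeLeft (AlgHom.id k A) _)]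
  congr 1
  show _ = shear ι _
  have h1 : ∀ t : R ⊗[k] A,
      shear ι (Algebra.TensorProduct.map
        (Algebra.TensorProduct.includeLeft : R →ₐ[k] R ⊗[k] A) (AlgHom.id k A) t) =
      (TensorProduct.assoc k R A A).symm ((Coalgebra.comul (R := k) (A := A)).lTensor R t) := by
    intro t
    induction t using TensorProduct.induction_on with
    | zero => simp
    | add x y hx hy => simp only [map_add, hx, hy]
    | tmul r b =>
      rw [Algebra.TensorProduct.map_tmul, AlgHom.id_apply, shear_tmul, LinearMap.lTensor_tmul]
      induction Coalgebra.comul (R := k) b using TensorProduct.induction_on with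
      | zero => simp
      | add p q hp hq => simp only [map_add, tmul_add, mul_add, hp, hq]
      | tmul p q => simp [ι]
  have h2 : ∀ t : R ⊗[k] A,
      Algebra.TensorProduct.map (GLin.coactAlgHom k A R) (AlgHom.id k A) t =
      (HopfRep.Comod.coact (k := k) (A := A) (V := R)).rTensor A t := by
    intro t
    induction t using TensorProduct.induction_on with
    | zero => simp
    | add x y hx hy => simp only [map_add, hx, hy]
    | tmul r b => simp
  rw [h1, h2, GLin.coactAlgHom_apply]
  apply (TensorProduct.assoc k R A A).injective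
  rw [LinearEquiv.apply_symm_apply]
  exact LinearMap.congr_fun (HopfRep.Comod.coassoc (k := k) (A := A) (V := R)) f

theorem mulCharpoly_coeff_mem (f : R) (n : ℕ) :
    (mulCharpoly (GLin.coactAlgHom k A R f)).coeff n ∈ GLin.invariants k A R := by
  have h := congrArg (fun p => Polynomial.coeff p n) (mulCharpoly_coact_map k A R f)
  simp only [Polynomial.coeff_map] at h
  exact h

theorem isIntegral_invariants : Algebra.IsIntegral (GLin.invariants k A R) R := by
  refine ⟨fun f => ?_⟩
  rcases subsingleton_or_nontrivial R with hR | hR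
  · exact ⟨1, Polynomial.monic_one, Subsingleton.elim _ _⟩
  set p := mulCharpoly (GLin.coactAlgHom k A R f)
  have hl : p ∈ Polynomial.lifts (algebraMap (GLin.invariants k A R) R) :=
    (Polynomial.lifts_iff_coeff_lifts p).mpr fun n => ⟨⟨_, mulCharpoly_coeff_mem k A R f n⟩, rfl⟩
  obtain ⟨q, hq, -, hqm⟩ := Polynomial.lifts_and_degree_eq_and_monic hl
    (LinearMap.charpoly_monic _)
  refine ⟨q, hqm, ?_⟩
  rw [Polynomial.eval₂_eq_eval_map, hq]
  let E : R ⊗[k] A →ₐ[R] R := Algebra.TensorProduct.lift (AlgHom.id R R)
    ((Algebra.ofId k R).comp (Bialgebra.counitAlgHom k A)) fun _ _ => Commute.all _ _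
  have hE : E (GLin.coactAlgHom k A R f) = f := by
    have h1 : ∀ t : R ⊗[k] A,
        E t = TensorProduct.rid k R ((Coalgebra.counit (R := k) (A := A)).lTensor R t) := by
      intro t
      induction t using TensorProduct.induction_on with
      | zero => simp
      | add x y hx hy => simp only [map_add, hx, hy]
      | tmul r a => simp [E, Algebra.smul_def, mul_comm]
    rw [h1, GLin.coactAlgHom_apply]
    have h2 := LinearMap.congr_fun (HopfRep.Comod.counit_comp (k := k) (A := A) (V := R)) f
    rw [LinearMap.comp_apply] at h2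
    rw [h2]
    simp
  have := congrArg E (aeval_mulCharpoly (GLin.coactAlgHom k A R f))
  rw [← Polynomial.aeval_algHom_apply, map_zero, hE] at this
  simpa [p, Polynomial.aeval_def, Polynomial.eval₂_eq_eval_map] using this

theorem finite_invariants [Algebra.FiniteType k R] :
    Algebra.FiniteType k (GLin.invariants k A R) ∧ Module.Finite (GLin.invariants k A R) R := by
  haveI := isIntegral_invariants k A R
  haveI : Algebra.FiniteType (GLin.invariants k A R) R :=
    Algebra.FiniteType.of_restrictScalars_finiteType k _ _
  haveI hfin : Module.Finite (GLin.invariants k A R) R := Algebra.IsIntegral.finite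
  exact ⟨⟨fg_of_fg_of_fg k (GLin.invariants k A R) R Algebra.FiniteType.out hfin.fg_top
    Subtype.val_injective⟩, hfin⟩

end Invariants

end Groth.Agent.FinInv23
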